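import Groth.Agent.MultType.GlueEquiv
import Groth.Agent.MultType.Connected
import Groth.Agent.MultType.Cover
import Mathlib.RingTheory.Spectrum.Prime.Topology
import Mathlib.RingTheory.Flat.Localization

/-!
Being of multiplicative type can be checked on a jointly surjective finite family of flat algebras, without any
finiteness assumption on the group.
-/

set_option autoImplicit false
set_option backward.isDefEq.respectTransparency false
set_option backward.isDefEq.respectTransparency.types false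
set_option linter.style.haveILetI false

universe u

open TensorProduct SGA3b

namespace Groth.Agent.MultCover

variable {R : Type u} [CommRing R]

/-- Two algebras with primes over the same prime have points in a common field. -/
theorem exists_common_field (S T : Type u) [CommRing S] [Algebra R S] [CommRing T] [Algebra R T]
    (P : PrimeSpectrum S) (Q : PrimeSpectrum T) (p : PrimeSpectrum R)
    (hP : PrimeSpectrum.comap (algebraMap R S) P = p) (hQ : PrimeSpectrum.comap (algebraMap R T) Q = p) :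
    ∃ (K : Type u) (_ : Field K) (_ : Algebra R K) (f : S →ₐ[R] K) (_ : T →ₐ[R] K),
      RingHom.ker (algebraMap R K) = p.asIdeal := by
  haveI : P.asIdeal.LiesOver p.asIdeal := ⟨by rw [← hP]; rfl⟩
  haveI : Q.asIdeal.LiesOver p.asIdeal := ⟨by rw [← hQ]; rfl⟩
  let k := p.asIdeal.ResidueField
  letI : Algebra k P.asIdeal.ResidueField :=
    (Ideal.ResidueField.map p.asIdeal P.asIdeal (algebraMap R S) (by rw [← hP]; rfl)).toAlgebra
  letI : Algebra k Q.asIdeal.ResidueField :=
    (Ideal.ResidueField.map p.asIdeal Q.asIdeal (algebraMap R T) (by rw [← hQ]; rfl)).toAlgebra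
  haveI : IsScalarTower R k P.asIdeal.ResidueField := IsScalarTower.of_algebraMap_eq fun r => by
    rw [RingHom.algebraMap_toAlgebra, Ideal.ResidueField.map_algebraMap]
    exact IsScalarTower.algebraMap_apply R S P.asIdeal.ResidueField r
  haveI : IsScalarTower R k Q.asIdeal.ResidueField := IsScalarTower.of_algebraMap_eq fun r => by
    rw [RingHom.algebraMap_toAlgebra, Ideal.ResidueField.map_algebraMap]
    exact IsScalarTower.algebraMap_apply R T Q.asIdeal.ResidueField r
  let X := P.asIdeal.ResidueField ⊗[k] Q.asIdeal.ResidueField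
  haveI : Module.Free k P.asIdeal.ResidueField := Module.Free.of_divisionRing k _
  haveI : Module.Free k Q.asIdeal.ResidueField := Module.Free.of_divisionRing k _
  haveI : Module.Flat k P.asIdeal.ResidueField := Module.Flat.of_free
  haveI : Nontrivial X :=
    (Algebra.TensorProduct.includeLeft_injective (R := k) (S := k) (A := P.asIdeal.ResidueField)
      (B := Q.asIdeal.ResidueField) (algebraMap k Q.asIdeal.ResidueField).injective).nontrivial
  obtain ⟨W, hW⟩ := Ideal.exists_maximal X
  letI : Field (X ⧸ W) := Ideal.Quotient.field W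
  let π : X →ₐ[k] X ⧸ W := Ideal.Quotient.mkₐ k W
  refine ⟨X ⧸ W, inferInstance, inferInstance,
    ((π.comp (Algebra.TensorProduct.includeLeft : P.asIdeal.ResidueField →ₐ[k] X)).restrictScalars R).comp
      (IsScalarTower.toAlgHom R S P.asIdeal.ResidueField),
    ((π.comp (Algebra.TensorProduct.includeRight : Q.asIdeal.ResidueField →ₐ[k] X)).restrictScalars R).comp
      (IsScalarTower.toAlgHom R T Q.asIdeal.ResidueField), ?_⟩
  rw [IsScalarTower.algebraMap_eq R k (X ⧸ W), RingHom.ker_comp_of_injective _ (algebraMap k (X ⧸ W)).injective, Ideal.ker_algebraMap_residueField]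

variable {B : Type u} [CommRing B] [HopfAlgebra R B]

/-- A group split on a jointly surjective finite family of flat algebras is of multiplicative type. -/
theorem isMultType_of_family {J : Type u} [Finite J] (T : J → Type u) [∀ j, CommRing (T j)]
    [∀ j, Algebra R (T j)] [∀ j, Module.Flat R (T j)]
    (hsurj : ∀ p : PrimeSpectrum R, ∃ j, p ∈ Set.range (PrimeSpectrum.comap (algebraMap R (T j))))
    (hd : ∀ j, IsDiag (T j) (T j ⊗[R] B)) : IsMultType R B := by
  classical
  choose N hN e using hd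
  let Rel : J → J → Prop := fun i j => Nonempty (N i ≃* N j)
  have hover : ∀ i j p, p ∈ Set.range (PrimeSpectrum.comap (algebraMap R (T i))) →
      p ∈ Set.range (PrimeSpectrum.comap (algebraMap R (T j))) → Rel i j := by
    rintro i j p ⟨P, hP⟩ ⟨Q, hQ⟩
    obtain ⟨K, _, _, f, g, -⟩ := exists_common_field (T i) (T j) P Q p hP hQ
    obtain ⟨e₁⟩ := MultType.Glue.nonempty_diag_map f (e i).some
    obtain ⟨e₂⟩ := MultType.Glue.nonempty_diag_map g (e j).some
    exact MultType.nonempty_mulEquiv (e₁.symm.trans e₂)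
  let U : J → Set (PrimeSpectrum R) := fun c =>
    {p | ∃ j, Rel c j ∧ p ∈ Set.range (PrimeSpectrum.comap (algebraMap R (T j)))}
  have hcompl : ∀ c p, p ∉ U c ↔ ∃ j, ¬ Rel c j ∧ p ∈ Set.range (PrimeSpectrum.comap (algebraMap R (T j))) := by
    intro c p
    refine ⟨fun hp => ?_, fun ⟨j, hj, hjp⟩ ⟨i, hi, hip⟩ => hj ?_⟩
    · obtain ⟨j, hj⟩ := hsurj p
      exact ⟨j, fun h => hp ⟨j, h, hj⟩, hj⟩
    · exact ⟨hi.some.trans (hover i j p hip hjp).some⟩
  -- each class is closed
  have hgen : ∀ c : J, ∀ x y : PrimeSpectrum R, x ⤳ y → y ∉ U c → x ∉ U c := fun c x y hxy hy => by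
    obtain ⟨j, hj, Q, hQ⟩ := (hcompl c y).1 hy
    subst hQ
    obtain ⟨P, -, hP⟩ := Ideal.exists_ideal_le_liesOver_of_le (R := R) Q.asIdeal
      (p := x.asIdeal) (q := Q.asIdeal.comap (algebraMap R (T j))) ((PrimeSpectrum.le_iff_specializes x _).2 hxy)
    obtain ⟨hPp, hover'⟩ := hP
    haveI := hPp
    refine (hcompl c x).2 ⟨j, hj, ⟨⟨P, hPp⟩, PrimeSpectrum.ext ?_⟩⟩
    exact hover'.over.symm
  have hclosed : ∀ c, IsClosed (U c) := fun c => by
    let Jc := {j : J // Rel c j}
    have hU : U c = Set.range (PrimeSpectrum.comap (algebraMap R (∀ j : Jc, T j.1))) := by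
      refine Set.ext fun p => ⟨?_, ?_⟩
      · rintro ⟨j, hj, P, rfl⟩
        exact ⟨PrimeSpectrum.comap (Pi.evalRingHom (fun j : Jc => T j.1) ⟨j, hj⟩) P, rfl⟩
      · rintro ⟨q, rfl⟩
        obtain ⟨i, q', rfl⟩ := PrimeSpectrum.exists_comap_evalRingHom_eq q
        exact ⟨i.1, i.2, q', rfl⟩
    rw [hU]
    refine PrimeSpectrum.isClosed_range_of_stableUnderSpecialization _ ?_
    rw [← hU]
    intro x y hxy hx
    by_contra hy
    exact hgen c x y hxy hy hx
  have hclopen : ∀ c, IsClopen (U c) := fun c => ⟨hclosed c, isClosed_compl_iff.1 (by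
    have : (U c)ᶜ = ⋃ d ∈ {d | ¬ Rel c d}, U d := by
      refine Set.ext fun p => ⟨fun hp => ?_, fun hp => ?_⟩
      · obtain ⟨j, hj, hjp⟩ := (hcompl c p).1 hp
        exact Set.mem_biUnion hj ⟨j, ⟨MulEquiv.refl _⟩, hjp⟩
      · obtain ⟨d, hd, j, hdj, hjp⟩ := Set.mem_iUnion₂.1 hp
        exact (hcompl c p).2 ⟨j, fun h => hd ⟨h.some.trans hdj.some.symm⟩, hjp⟩
    rw [this]
    exact Set.Finite.isClosed_biUnion (Set.toFinite _) fun d _ => hclosed d)⟩
  choose ε hεi hεU using fun c => PrimeSpectrum.exists_idempotent_basicOpen_eq_of_isClopen (hclopen c)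
  refine ⟨Set.range ε, ?_, ?_⟩
  · rw [← PrimeSpectrum.iSup_basicOpen_eq_top_iff', eq_top_iff]
    intro p _
    obtain ⟨j, hj⟩ := hsurj p
    have hp : p ∈ U j := ⟨j, ⟨MulEquiv.refl _⟩, hj⟩
    rw [hεU] at hp
    exact TopologicalSpace.Opens.mem_iSup.2 ⟨ε j, TopologicalSpace.Opens.mem_iSup.2 ⟨⟨j, rfl⟩, hp⟩⟩
  rintro _ ⟨c, rfl⟩
  let Jc := {j : J // Rel c j}
  obtain ⟨n, ⟨η⟩⟩ := Finite.exists_equiv_fin Jc
  let S : Fin n → Type u := fun i => T (η.symm i).1
  let P := ∀ i, S i
  haveI : Module.Flat R P :=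
    Module.Flat.of_linearEquiv (DFinsupp.linearEquivFunOnFintype (R := R) (M := S)).symm
  let L := Localization.Away (ε c)
  have hunit : IsUnit (algebraMap R P (ε c)) := by
    rw [Pi.isUnit_iff]
    intro i
    by_contra h
    obtain ⟨m, hm, hme⟩ := exists_max_ideal_of_mem_nonunits h
    have hp : PrimeSpectrum.comap (algebraMap R (S i)) ⟨m, hm.isPrime⟩ ∈ U c :=
      ⟨_, (η.symm i).2, ⟨_, rfl⟩⟩
    rw [hεU] at hp
    exact hp hme
  letI : Algebra L P := (IsLocalization.Away.lift (ε c) (g := algebraMap R P) hunit).toAlgebra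
  haveI : IsScalarTower R L P := IsScalarTower.of_algebraMap_eq' (IsLocalization.Away.lift_comp _ _).symm
  haveI : Module.Flat L P := by
    rw [Module.flat_iff_of_isLocalization L (Submonoid.powers (ε c))]
    infer_instance
  haveI hff : Module.FaithfullyFlat L P := Module.FaithfullyFlat.of_comap_surjective fun p => by
    have hp : PrimeSpectrum.comap (algebraMap R L) p ∈ U c := by
      rw [hεU, ← PrimeSpectrum.localization_away_comap_range L (ε c)]
      exact ⟨p, rfl⟩
    obtain ⟨j, hj, Q, hQ⟩ := hp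
    have key : ∀ i, η.symm i = ⟨j, hj⟩ → ∃ q : PrimeSpectrum P,
        PrimeSpectrum.comap (algebraMap R P) q = PrimeSpectrum.comap (algebraMap R L) p := fun i hi => by
      have : PrimeSpectrum.comap (algebraMap R L) p ∈
          Set.range (PrimeSpectrum.comap (algebraMap R (S i))) := by
        show _ ∈ Set.range (PrimeSpectrum.comap (algebraMap R (T (η.symm i).1)))
        rw [hi]
        exact ⟨Q, hQ⟩
      obtain ⟨Q', hQ'⟩ := this
      exact ⟨PrimeSpectrum.comap (Pi.evalRingHom S i) Q', hQ'⟩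
    obtain ⟨q, hq⟩ := key (η ⟨j, hj⟩) (η.symm_apply_apply _)
    refine ⟨q, PrimeSpectrum.localization_comap_injective L (Submonoid.powers (ε c)) ?_⟩
    rw [← hq, IsScalarTower.algebraMap_eq R L P]
    rfl
  have hdiag : IsDiag P (P ⊗[R] B) := MultType.Glue.isDiag_pi S (M := N c) fun i => by
    obtain ⟨g⟩ := (η.symm i).2
    obtain ⟨g'⟩ := MultType.Glue.nonempty_equiv_of_mulEquiv (S i) g.symm
    exact ⟨((e (η.symm i).1).some).trans g'⟩
  exact ⟨P, inferInstance, inferInstance, hff, MultType.isDiag_congr (MultType.cbc (R := R) (A := B) L P).symm hdiag⟩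

end Groth.Agent.MultCover
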