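import Groth.Agent.MultCover.Family
import Groth.Agent.MultType.Quot
import Groth.Agent.MultType.HenselLift
import Groth.Agent.MultType.PointValue

/-!
Kernels of homomorphisms between groups of multiplicative type, the source arbitrary, the target of finite type.
-/

set_option autoImplicit false
set_option backward.isDefEq.respectTransparency false
set_option backward.isDefEq.respectTransparency.types false
set_option linter.style.haveILetI false

universe u

open TensorProduct SGA3b MonoidAlgebra

noncomputable section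

namespace Groth.Agent.MultCover

variable {R : Type u} [CommRing R] {A : Type u} [CommRing A] [HopfAlgebra R A]
  {C : Type u} [CommRing C] [HopfAlgebra R C]

theorem map_tmap {S T : Type u} [CommRing S] [Algebra R S] [CommRing T] [Algebra R T] (q : T →ₐ[R] S) (φ : C →ₐc[R] A)
    (z : T ⊗[R] C) :
    Bialgebra.TensorProduct.map (BialgHom.id S S) φ (Algebra.TensorProduct.map q (AlgHom.id R C) z) =
      Algebra.TensorProduct.map q (AlgHom.id R A) (Bialgebra.TensorProduct.map (BialgHom.id T T) φ z) := by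
  induction z using TensorProduct.induction_on with
  | zero => simp
  | add u v hu hv => simp only [map_add, hu, hv]
  | tmul t b => rfl

theorem mapAlgHom_eq_single {S T : Type u} [CommRing S] [Algebra R S] [CommRing T] [Algebra R T] (q : T →ₐ[R] S)
    {M : Type u} [CommGroup M] {w : MonoidAlgebra T M} (hw : IsGroupLikeElem T w) {m : M} (hm : q (w.coeff m) = 1) :
    mapAlgHom M q w = single m 1 := by
  classical
  refine MonoidAlgebra.ext (Finsupp.ext fun v => ?_)
  rw [show (mapAlgHom M q w).coeff v = q (w.coeff v) from coeff_mapRingHom (q : T →+* S) w v, coeff_single]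
  by_cases hv : v = m
  · subst hv; rw [Finsupp.single_eq_same, hm]
  · rw [Finsupp.single_eq_of_ne hv]
    have := congrArg q (MultType.coeff_mul_coeff hw m v)
    rwa [if_neg (Ne.symm hv), map_mul, map_zero, hm, one_mul] at this

/-- A flat algebra on which both groups split, cut into pieces on which the map of character groups is constant. -/
theorem isDiag_quot_piece (φ : C →ₐc[R] A) (J : Ideal A) [J.IsHopfIdeal R]
    (hJ : J = Ideal.map φ (RingHom.ker (Bialgebra.counitAlgHom R C))) (T : Type u) [CommRing T] [Algebra R T]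
    {M P : Type u} [CommGroup M] [CommGroup P] (eA : T ⊗[R] A ≃ₐc[T] MonoidAlgebra T M)
    (eC : T ⊗[R] C ≃ₐc[T] MonoidAlgebra T P) (gens : Finset P) (hgens : Subgroup.closure (gens : Set P) = ⊤)
    (hconst : ∀ x ∈ gens, ∃ m : M, eA (Bialgebra.TensorProduct.map (BialgHom.id T T) φ (eC.symm (single x 1))) = single m 1) :
    IsDiag T (T ⊗[R] (A ⧸ J)) := by
  classical
  let φT : T ⊗[R] C →ₐc[T] T ⊗[R] A := Bialgebra.TensorProduct.map (BialgHom.id T T) φ
  let ψ : MonoidAlgebra T P → MonoidAlgebra T M := fun v => eA (φT (eC.symm v))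
  have hψ1 : ψ 1 = 1 := by simp [ψ]
  have hψm : ∀ u v, ψ (u * v) = ψ u * ψ v := fun u v => by simp [ψ]
  -- every character goes to a character
  let G : Subgroup P :=
    { carrier := {x | ∃ m : M, ψ (single x 1) = single m 1}
      one_mem' := ⟨1, hψ1⟩
      mul_mem' := by
        rintro a b ⟨m, hm⟩ ⟨n, hn⟩
        exact ⟨m * n, by rw [show (single (a * b) 1 : MonoidAlgebra T P) = single a 1 * single b 1 by simp, hψm, hm,
          hn, single_mul_single, mul_one]⟩
      inv_mem' := by
        rintro a ⟨m, hm⟩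
        refine ⟨m⁻¹, ?_⟩
        have h1 : ψ (single a⁻¹ 1) * single m 1 = 1 := by
          rw [← hm, ← hψm, single_mul_single, inv_mul_cancel, mul_one, ← one_def, hψ1]
        calc ψ (single a⁻¹ 1) = ψ (single a⁻¹ 1) * (single m 1 * single m⁻¹ 1) := by
              rw [single_mul_single, mul_inv_cancel, mul_one, ← one_def, mul_one]
          _ = single m⁻¹ 1 := by rw [← mul_assoc, h1, one_mul] }
  have hG : ∀ x, ∃ m : M, ψ (single x 1) = single m 1 := fun x => by
    have : G = ⊤ := top_le_iff.1 (hgens ▸ (Subgroup.closure_le _).2 hconst)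
    exact (this ▸ Subgroup.mem_top x : x ∈ G)
  choose h hh using hG
  let H : Subgroup M := Subgroup.closure (Set.range h)
  let mk : M →* M ⧸ H := QuotientGroup.mk' H
  let Q : T ⊗[R] A →ₐ[T] MonoidAlgebra T (M ⧸ H) :=
    (MonoidAlgebra.mapDomainAlgHom T T mk).comp (eA : T ⊗[R] A →ₐ[T] MonoidAlgebra T M)
  -- the quotient map kills the kernel ideal
  let f : C →ₐ[R] MonoidAlgebra T (M ⧸ H) :=
    (Q.restrictScalars R).comp ((Algebra.TensorProduct.includeRight : A →ₐ[R] T ⊗[R] A).comp (φ : C →ₐ[R] A))
  have htriv : ∀ w : T ⊗[R] C, Q (φT w) = algebraMap T _ (Coalgebra.counit (R := T) w) := by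
    intro w
    obtain ⟨v, rfl⟩ : ∃ v, eC.symm v = w := ⟨eC w, eC.symm_apply_apply w⟩
    rw [CoalgHomClass.counit_comp_apply eC.symm v]
    induction v using MonoidAlgebra.induction_linear with
    | zero => simp
    | add a b ha hb => rw [map_add, map_add, map_add, map_add, map_add, ha, hb]
    | single x t =>
      have h1 : Q (φT (eC.symm (single x t))) = t • (single (mk (h x)) 1 : MonoidAlgebra T (M ⧸ H)) := by
        rw [show (single x t : MonoidAlgebra T P) = t • single x 1 by simp, map_smul, map_smul, map_smul]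
        congr 1
        show MonoidAlgebra.mapDomainAlgHom T T mk (eA (φT (eC.symm (single x 1)))) = _
        rw [show eA (φT (eC.symm (single x 1))) = single (h x) 1 from hh x]
        simp
      rw [h1, show mk (h x) = 1 from (QuotientGroup.eq_one_iff _).2 (Subgroup.subset_closure ⟨x, rfl⟩),
        counit_single, ← MonoidAlgebra.one_def, Algebra.algebraMap_eq_smul_one]
      rfl
  have hkill : ∀ a ∈ J, Q ((1 : T) ⊗ₜ a) = 0 := by
    intro a ha
    have : J ≤ RingHom.ker ((Q.restrictScalars R).comp (Algebra.TensorProduct.includeRight : A →ₐ[R] T ⊗[R] A)) := by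
      rw [hJ, Ideal.map_le_iff_le_comap]
      intro c hc
      show Q (φT ((1 : T) ⊗ₜ c)) = 0
      rw [htriv, TensorProduct.counit_tmul, show Coalgebra.counit (R := R) c = 0 from hc, zero_smul, map_zero]
    exact this ha
  let g' : A ⧸ J →ₐ[R] MonoidAlgebra T (M ⧸ H) :=
    Ideal.Quotient.liftₐ J ((Q.restrictScalars R).comp (Algebra.TensorProduct.includeRight : A →ₐ[R] T ⊗[R] A)) hkill
  let Gm : T ⊗[R] (A ⧸ J) →ₐ[T] MonoidAlgebra T (M ⧸ H) :=
    Algebra.TensorProduct.lift (Algebra.ofId T _) g' fun _ _ => Commute.all _ _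
  let π : T ⊗[R] A →ₐc[T] T ⊗[R] (A ⧸ J) :=
    Bialgebra.TensorProduct.map (BialgHom.id T T) (Bialgebra.Quotient.mkBialgHom (R := R) J)
  have hGπ : ∀ z, Gm (π z) = Q z := fun z => by
    induction z using TensorProduct.induction_on with
    | zero => simp
    | add a b ha hb => simp only [map_add, ha, hb]
    | tmul t a =>
      have : t ⊗ₜ[R] a = t • ((1 : T) ⊗ₜ[R] a) := by rw [TensorProduct.smul_tmul', smul_eq_mul, mul_one]
      rw [this, map_smul, map_smul, map_smul]
      congr 1
      show Gm ((1 : T) ⊗ₜ[R] Ideal.Quotient.mk J a) = _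
      refine (Algebra.TensorProduct.lift_tmul _ _ _ _ _).trans ?_
      rw [map_one, one_mul]
      rfl
  let θ : M →* T ⊗[R] (A ⧸ J) :=
    ((π : T ⊗[R] A →ₐ[T] T ⊗[R] (A ⧸ J)).toMonoidHom.comp
      (eA.symm : MonoidAlgebra T M →ₐ[T] T ⊗[R] A).toMonoidHom).comp (MonoidAlgebra.of T M)
  have hθ : ∀ m, θ m = π (eA.symm (single m 1)) := fun _ => rfl
  have hθH : ∀ m ∈ H, θ m = 1 := by
    suffices hle : H ≤ θ.toHomUnits.ker from fun m hm => congrArg Units.val (hle hm)
    refine (Subgroup.closure_le _).2 ?_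
    rintro _ ⟨x, rfl⟩
    rw [SetLike.mem_coe, MonoidHom.mem_ker]
    refine Units.ext ?_
    show θ (h x) = 1
    rw [hθ, ← hh x]
    show π (eA.symm (eA (φT (eC.symm (single x 1))))) = 1
    rw [eA.symm_apply_apply]
    have key : ∀ w : T ⊗[R] C, π (φT w) = algebraMap T _ (Coalgebra.counit (R := T) w) := fun w => by
      induction w using TensorProduct.induction_on with
      | zero => simp
      | add a b ha hb => simp only [map_add, ha, hb]
      | tmul t c =>
        show t ⊗ₜ[R] Ideal.Quotient.mk J (φ c) = _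
        have h1 : Ideal.Quotient.mk J (φ c) = algebraMap R (A ⧸ J) (Coalgebra.counit c) := by
          rw [← sub_eq_zero, ← Ideal.Quotient.mk_algebraMap, ← map_sub, Ideal.Quotient.eq_zero_iff_mem, hJ]
          rw [← AlgHomClass.commutes φ, ← map_sub]
          refine Ideal.mem_map_of_mem _ ?_
          show Bialgebra.counitAlgHom R C _ = 0
          rw [map_sub, AlgHom.commutes]
          simp
        rw [h1, TensorProduct.counit_tmul, CommSemiring.counit_apply, Algebra.algebraMap_eq_smul_one (A := A ⧸ J),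
          TensorProduct.tmul_smul, TensorProduct.smul_tmul', Algebra.TensorProduct.algebraMap_apply]
        rfl
    rw [key, CoalgHomClass.counit_comp_apply eC.symm, counit_single, CommSemiring.counit_apply, map_one]
  let θ' : M ⧸ H →* T ⊗[R] (A ⧸ J) :=
    (Units.coeHom _).comp (QuotientGroup.lift H θ.toHomUnits fun m hm => Units.ext (hθH m hm))
  have hθ' : ∀ m : M, θ' (mk m) = θ m := fun m => rfl
  refine MultType.isDiag_of_hom θ (fun m => ?_) ?_ ?_
  · rw [hθ]
    exact ((MonoidAlgebra.isGroupLikeElem_single_one (R := T) (A := T) m).map eA.symm).map π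
  · rw [eq_top_iff]
    intro z _
    have hπs : Function.Surjective π := fun y => by
      induction y using TensorProduct.induction_on with
      | zero => exact ⟨0, map_zero π⟩
      | add a b ha hb =>
        obtain ⟨a, rfl⟩ := ha
        obtain ⟨b, rfl⟩ := hb
        exact ⟨a + b, map_add π a b⟩
      | tmul t a =>
        obtain ⟨a, rfl⟩ := Ideal.Quotient.mk_surjective a
        exact ⟨t ⊗ₜ a, rfl⟩
    obtain ⟨y, rfl⟩ := hπs z
    obtain ⟨v, rfl⟩ : ∃ v, eA.symm v = y := ⟨eA y, eA.symm_apply_apply y⟩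
    induction v using MonoidAlgebra.induction_linear with
    | zero => simp
    | add a b ha hb => rw [map_add, map_add]; exact Submodule.add_mem _ (ha trivial) (hb trivial)
    | single m t =>
      rw [show (single m t : MonoidAlgebra T M) = t • single m 1 by simp, map_smul, map_smul, ← hθ]
      exact Submodule.smul_mem _ _ (Submodule.subset_span ⟨m, rfl⟩)
  · have hGθ : ∀ n, Gm (θ' n) = single n 1 := fun n => by
      induction n using QuotientGroup.induction_on with
      | H m =>
        rw [show θ' (m : M ⧸ H) = θ m from hθ' m, hθ, hGπ]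
        show MonoidAlgebra.mapDomainAlgHom T T mk (eA (eA.symm (single m 1))) = _
        rw [eA.apply_symm_apply]
        simp
        rfl
    have hli : LinearIndependent T θ' := LinearIndependent.of_comp Gm.toLinearMap (by
      have : (Gm.toLinearMap ∘ θ') = ⇑(MonoidAlgebra.basis (M ⧸ H) T) := funext fun n => by
        rw [Function.comp_apply, AlgHom.toLinearMap_apply, hGθ, MonoidAlgebra.basis_apply]
      rw [this]
      exact (MonoidAlgebra.basis (M ⧸ H) T).linearIndependent)
    have hr : Set.range θ = Set.range θ' := by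
      refine Set.ext fun x => ⟨?_, ?_⟩
      · rintro ⟨m, rfl⟩; exact ⟨mk m, hθ' m⟩
      · rintro ⟨n, rfl⟩
        induction n using QuotientGroup.induction_on with
        | H m => exact ⟨m, (hθ' m).symm⟩
    rw [hr]
    exact hli.linearIndepOn_id

/-- Splittings pushed to a quotient of the splitting algebra. -/
theorem isDiag_quot_split (φ : C →ₐc[R] A) (J : Ideal A) [J.IsHopfIdeal R]
    (hJ : J = Ideal.map φ (RingHom.ker (Bialgebra.counitAlgHom R C))) (ca : MultType.Chart R A) (cc : MultType.Chart R C)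
    {T S : Type u} [CommRing T] [Algebra R T] [CommRing S] [Algebra R S] (i : ca.R' →ₐ[R] T) (j : cc.R' →ₐ[R] T)
    (q : T →ₐ[R] S) (gens : Finset cc.M) (hgens : Subgroup.closure (gens : Set cc.M) = ⊤)
    (hconst : ∀ x ∈ gens, ∃ m : ca.M, mapAlgHom ca.M q (MultType.splitE ca.e i
      (Bialgebra.TensorProduct.map (BialgHom.id T T) φ ((MultType.splitE cc.e j).symm (single x 1)))) = single m 1) :
    IsDiag S (S ⊗[R] (A ⧸ J)) := by
  refine isDiag_quot_piece φ J hJ S (MultType.splitE ca.e (q.comp i)) (MultType.splitE cc.e (q.comp j)) gens hgens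
    fun x hx => ?_
  obtain ⟨m, hm⟩ := hconst x hx
  refine ⟨m, ?_⟩
  have h1 : (MultType.splitE cc.e (q.comp j)).symm (single x 1) =
      Algebra.TensorProduct.map q (AlgHom.id R C) ((MultType.splitE cc.e j).symm (single x 1)) := by
    rw [MultType.splitE_symm_apply, MultType.splitE_symm_apply, MultType.gamBialg_single, MultType.gamBialg_single,
      one_smul, one_smul]
    exact MultType.gam_comp cc.e j q x
  rw [h1, map_tmap q φ, MultType.splitE_comp, hm]

/-- The kernel of a homomorphism into a group of multiplicative type and finite type. -/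
theorem isMultType_kernel_of_ft (hA : IsMultType R A) (hC : IsMultType R C) (hCft : Algebra.FiniteType R C)
    (φ : C →ₐc[R] A) (J : Ideal A) [J.IsHopfIdeal R]
    (hJ : J = Ideal.map φ (RingHom.ker (Bialgebra.counitAlgHom R C))) : IsMultType R (A ⧸ J) := by
  classical
  haveI := hCft
  obtain ⟨sA, hsA, hcA⟩ := MultType.exists_charts hA
  obtain ⟨tA, htA, htA1⟩ := Ideal.span_eq_top_iff_finite sA |>.1 hsA
  obtain ⟨sC, hsC, hcC⟩ := MultType.exists_charts hC
  obtain ⟨tC, htC, htC1⟩ := Ideal.span_eq_top_iff_finite sC |>.1 hsC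
  choose a ha using fun f : tA => hcA f.1 (htA f.2)
  choose c hc using fun f : tC => hcC f.1 (htC f.2)
  let T : tA × tC → Type u := fun i => (a i.1).R' ⊗[R] (c i.2).R'
  let I := {i : tA × tC // Nontrivial (T i)}
  let fA : ∀ i : tA × tC, (a i.1).R' →ₐ[R] T i := fun i => Algebra.TensorProduct.includeLeft
  let fC : ∀ i : tA × tC, (c i.2).R' →ₐ[R] T i := fun i => Algebra.TensorProduct.includeRight
  let eA := fun i : tA × tC => MultType.splitE (a i.1).e (fA i)
  let eC := fun i : tA × tC => MultType.splitE (c i.2).e (fC i)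
  have hfg : ∀ i : I, Group.FG (c i.1.2).M := fun i => by
    haveI : Nontrivial (T i.1) := i.2
    haveI : Nontrivial (c i.1.2).R' := (fC i.1).domain_nontrivial
    exact MultType.fg_of_finiteType hCft (c i.1.2).e
  choose gens hgens using fun i : I => (hfg i).out
  let w : ∀ (i : I), ↥(gens i) → MonoidAlgebra (T i.1) (a i.1.1).M := fun i x =>
    (eA i.1) (Bialgebra.TensorProduct.map (BialgHom.id (T i.1) (T i.1)) φ ((eC i.1).symm (single x.1 1)))
  have hw : ∀ i x, IsGroupLikeElem (T i.1) (w i x) := fun i x =>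
    (((MonoidAlgebra.isGroupLikeElem_single_one (R := T i.1) (A := T i.1) x.1).map (eC i.1).symm).map
      (Bialgebra.TensorProduct.map (BialgHom.id (T i.1) (T i.1)) φ)).map (eA i.1)
  let E : ∀ i : I, (∀ x : gens i, (w i x).coeff.support) → T i.1 := fun i σ => ∏ x, (w i x).coeff (σ x).1
  let Idx := Σ i : I, ∀ x : gens i, (w i x).coeff.support
  let S : Idx → Type u := fun p => T p.1.1 ⧸ Ideal.span {1 - E p.1 p.2}
  have hidem : ∀ i σ, IsIdempotentElem (E i σ) := fun i σ => by
    show (∏ x, (w i x).coeff (σ x).1) * ∏ x, (w i x).coeff (σ x).1 = _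
    rw [← Finset.prod_mul_distrib]
    refine Finset.prod_congr rfl fun x _ => ?_
    rw [MultType.coeff_mul_coeff (hw i x), if_pos rfl]
  haveI : ∀ p, Module.Flat R (S p) := fun p => by
    haveI : Module.Flat R (T p.1.1) := inferInstance
    haveI : IsLocalization.Away (E p.1 p.2) (S p) :=
      IsLocalization.away_of_isIdempotentElem (hidem p.1 p.2) Ideal.mk_ker Ideal.Quotient.mk_surjective
    haveI : Module.Flat (T p.1.1) (S p) := IsLocalization.flat _ (Submonoid.powers (E p.1 p.2))
    exact Module.Flat.trans R (T p.1.1) (S p)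
  refine isMultType_of_family S (fun p => ?_) fun p => ?_
  · -- joint surjectivity
    obtain ⟨fA', hfA', hpA⟩ : ∃ f ∈ tA, f ∉ p.asIdeal := by
      by_contra! hn
      exact p.isPrime.ne_top (top_le_iff.1 (htA1 ▸ Ideal.span_le.2 hn))
    obtain ⟨fC', hfC', hpC⟩ : ∃ f ∈ tC, f ∉ p.asIdeal := by
      by_contra! hn
      exact p.isPrime.ne_top (top_le_iff.1 (htC1 ▸ Ideal.span_le.2 hn))
    have key : ∀ {B : Type u} [CommRing B] [HopfAlgebra R B] (d : MultType.Chart R B), d.f ∉ p.asIdeal →
        ∃ P : PrimeSpectrum d.R', PrimeSpectrum.comap (algebraMap R d.R') P = p := by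
      intro B _ _ d hd
      obtain ⟨p', hp'⟩ : p ∈ Set.range (PrimeSpectrum.comap (algebraMap R (Localization.Away d.f))) := by
        rw [PrimeSpectrum.localization_away_comap_range (Localization.Away d.f) d.f]
        exact hd
      haveI := d.ff
      obtain ⟨P, hP⟩ := PrimeSpectrum.comap_surjective_of_faithfullyFlat (B := d.R') p'
      refine ⟨P, ?_⟩
      rw [← hp', ← hP, IsScalarTower.algebraMap_eq R (Localization.Away d.f) d.R']
      rfl
    let i₀ : tA × tC := (⟨fA', hfA'⟩, ⟨fC', hfC'⟩)
    obtain ⟨P, hP⟩ := key (a i₀.1) (by rw [ha]; exact hpA)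
    obtain ⟨Q, hQ⟩ := key (c i₀.2) (by rw [hc]; exact hpC)
    obtain ⟨K, _, _, f, g, hker⟩ := exists_common_field _ _ P Q p hP hQ
    let j : T i₀ →ₐ[R] K := Algebra.TensorProduct.lift f g fun _ _ => Commute.all _ _
    haveI : Nontrivial (T i₀) := j.domain_nontrivial
    let i : I := ⟨i₀, this⟩
    have hval : ∀ x : gens i, ∃ u : (w i x).coeff.support, j ((w i x).coeff u.1) = 1 := fun x => by
      obtain ⟨u, hu⟩ := MultType.exists_mapAlgHom_eq_single (hw i x) j
      have hu1 : j ((w i x).coeff u) = 1 := by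
        have := congrArg (fun v => v.coeff u) hu
        rw [show (mapAlgHom _ j (w i x)).coeff u = j ((w i x).coeff u) from
          coeff_mapRingHom (j : T i₀ →+* K) (w i x) u] at this
        simpa using this
      exact ⟨⟨u, Finsupp.mem_support_iff.2 fun h0 => one_ne_zero (α := K) (by rw [← hu1, h0, map_zero])⟩, hu1⟩
    choose σ hσ using hval
    have hjE : j (E i σ) = 1 := by
      show j (∏ x, (w i x).coeff (σ x).1) = 1
      rw [map_prod]
      exact Finset.prod_eq_one fun x _ => hσ x
    let j' : S ⟨i, σ⟩ →ₐ[R] K := Ideal.Quotient.liftₐ _ j (fun y hy => by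
      obtain ⟨z, rfl⟩ := Ideal.mem_span_singleton'.1 hy
      rw [map_mul, map_sub, map_one, hjE, sub_self, mul_zero])
    refine ⟨⟨i, σ⟩, PrimeSpectrum.comap j'.toRingHom ⟨⊥, Ideal.isPrime_bot⟩, PrimeSpectrum.ext ?_⟩
    show (Ideal.comap j'.toRingHom ⊥).comap (algebraMap R (S ⟨i, σ⟩)) = p.asIdeal
    rw [Ideal.comap_comap]
    show Ideal.comap ((j' : _ →+* K).comp (algebraMap R (S ⟨i, σ⟩))) ⊥ = p.asIdeal
    rw [j'.comp_algebraMap, ← RingHom.ker_eq_comap_bot, hker]
  · -- each piece splits
    obtain ⟨i, σ⟩ := p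
    let q : T i.1 →ₐ[R] S ⟨i, σ⟩ := Ideal.Quotient.mkₐ R _
    have hE : q (E i σ) = 1 := by
      have : q (1 - E i σ) = 0 := Ideal.Quotient.eq_zero_iff_mem.2 (Ideal.mem_span_singleton_self _)
      rwa [map_sub, map_one, sub_eq_zero, eq_comm] at this
    have hu : ∀ y : ↥(gens i), q ((w i y).coeff (σ y).1) = 1 := fun y => by
      have hfac : q (E i σ) = q ((w i y).coeff (σ y).1) *
          q (∏ z ∈ Finset.univ.erase y, (w i z).coeff (σ z).1) := by
        rw [← map_mul, Finset.mul_prod_erase _ (fun z => (w i z).coeff (σ z).1) (Finset.mem_univ _)]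
      exact ((IsIdempotentElem.iff_eq_one_of_isUnit (IsUnit.of_mul_eq_one _ (hfac.symm.trans hE))).1
        (IsIdempotentElem.map ((MultType.coeff_mul_coeff (hw i y) (σ y).1 (σ y).1).trans (if_pos rfl) : IsIdempotentElem ((w i y).coeff (σ y).1)) q))
    have key : ∀ y : ↥(gens i), ∃ m, mapAlgHom (a i.1.1).M q (w i y) = single m 1 := fun y =>
      ⟨(σ y).1, mapAlgHom_eq_single q (hw i y) (hu y)⟩
    exact isDiag_quot_split φ J hJ (a i.1.1) (c i.1.2) (fA i.1) (fC i.1) q (gens i) (hgens i)
      fun x hx => key ⟨x, hx⟩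

end Groth.Agent.MultCover
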